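import Cfsg.Prelude.Def_OddOrderLocal
import Cfsg.Agent.Lib.Helper23.Compl
import Mathlib

set_option autoImplicit false

namespace Cfsg.Agent.Lib.Helper23

theorem card_mul_relIndex {G : Type*} [Group G] {K L : Subgroup G} (h : K ≤ L) :
    Nat.card K * K.relIndex L = Nat.card L := by
  have := Subgroup.relIndex_mul_relIndex ⊥ K L bot_le h
  rwa [Subgroup.relIndex_bot_left, Subgroup.relIndex_bot_left] at this

/-- In a finite group, the subgroup `M_F` has order coprime to its index. -/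
theorem fittingHall_coprime (M : Type*) [Group M] [Finite M] :
    (Nat.card (Cfsg.fittingHall M)).Coprime (Cfsg.fittingHall M).index := by
  let s : Set (Subgroup M) := {N | N.Normal ∧ (Nat.card N).Coprime N.index}
  have hs : SupClosed s := by
    rintro N₁ ⟨hN₁, hc₁⟩ N₂ ⟨hN₂, hc₂⟩
    refine ⟨Subgroup.sup_normal N₁ N₂, ?_⟩
    have hdvd : Nat.card ↥(N₁ ⊔ N₂) ∣ Nat.card N₁ * Nat.card N₂ := by
      have h1 : N₂.relIndex (N₁ ⊔ N₂) = N₂.relIndex N₁ := Subgroup.relIndex_sup_right N₁ N₂
      have h2 : Nat.card N₂ * N₂.relIndex (N₁ ⊔ N₂) = Nat.card ↥(N₁ ⊔ N₂) :=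
        card_mul_relIndex le_sup_right
      rw [← h2, h1, mul_comm]
      exact Nat.mul_dvd_mul_right (Subgroup.relIndex_dvd_card N₂ N₁) _
    have i1 : (N₁ ⊔ N₂).index ∣ N₁.index := Subgroup.index_dvd_of_le le_sup_left
    have i2 : (N₁ ⊔ N₂).index ∣ N₂.index := Subgroup.index_dvd_of_le le_sup_right
    exact Nat.Coprime.coprime_dvd_left hdvd
      (Nat.Coprime.mul_left (Nat.Coprime.coprime_dvd_right i1 hc₁)
        (Nat.Coprime.coprime_dvd_right i2 hc₂))
  have hbot : (⊥ : Subgroup M) ∈ s := by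
    refine ⟨inferInstance, ?_⟩
    simp
  have hmem : Cfsg.fittingHall M ∈ s := by
    unfold Cfsg.fittingHall
    refine hs.sSup_mem (Set.toFinite _) hbot ?_
    rintro N ⟨h1, -, h3⟩
    exact ⟨h1, h3⟩
  exact hmem.2

theorem commutator_self_le {G : Type*} [Group G] (M : Subgroup G) : ⁅M, M⁆ ≤ M := by
  rw [Subgroup.commutator_le]
  intro a ha b hb
  exact M.mul_mem (M.mul_mem (M.mul_mem ha hb) (M.inv_mem ha)) (M.inv_mem hb)

theorem card_fittingHallOf {G : Type*} [Group G] (M : Subgroup G) :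
    Nat.card (Cfsg.fittingHallOf M) = Nat.card (Cfsg.fittingHall M) := by
  unfold Cfsg.fittingHallOf
  exact Subgroup.card_map_of_injective M.subtype_injective

/-- Type P data: `H = M_F` and `U` have coprime orders. -/
theorem typeP_coprime_H_U {G : Type*} [Group G] [Finite G] (M W₁ U W₂ : Subgroup G)
    (hP : Cfsg.IsTypePWith M W₁ U W₂) :
    (Nat.card (Cfsg.fittingHallOf M)).Coprime (Nat.card U) := by
  have hcard := card_of_isComplIn hP.U_compl
  have h1 : Nat.card ↥⁅M, M⁆ ∣ Nat.card M := Subgroup.card_dvd_of_le (commutator_self_le M)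
  have h2 : Nat.card (Cfsg.fittingHall M) * (Cfsg.fittingHall M).index = Nat.card M :=
    Subgroup.card_mul_index _
  have h3 := fittingHall_coprime M
  rw [card_fittingHallOf]
  rw [hcard, card_fittingHallOf, ← h2] at h1
  have h4 : Nat.card U ∣ (Cfsg.fittingHall M).index :=
    Nat.dvd_of_mul_dvd_mul_left Nat.card_pos h1
  exact Nat.Coprime.coprime_dvd_right h4 h3

theorem orderOf_dvd_card_of_mem {G : Type*} [Group G] {A : Subgroup G} {a : G} (ha : a ∈ A) :
    orderOf a ∣ Nat.card A := by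
  have : orderOf (⟨a, ha⟩ : A) ∣ Nat.card A := orderOf_dvd_natCard _
  rwa [Subgroup.orderOf_mk] at this

/-- The statement of S1387. -/
theorem typeP_fittingOf_eq {G : Type*} [Group G] [Finite G] (M W₁ U W₂ : Subgroup G)
    (hP : Cfsg.IsTypePWith M W₁ U W₂) :
    Cfsg.fittingOf M = Cfsg.fittingHallOf M ⊔
      (U ⊓ Subgroup.centralizer (Cfsg.fittingHallOf M : Set G)) := by
  have hUM : U ≤ M := hP.U_compl.2.1.trans (commutator_self_le M)
  have hcop := typeP_coprime_H_U M W₁ U W₂ hP
  rw [← hP.fitting_eq]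
  apply le_antisymm
  · apply sup_le le_sup_left
    intro c hc
    have hcF : c ∈ Cfsg.fittingOf M := by
      rw [← hP.fitting_eq]; exact Subgroup.mem_sup_right hc
    obtain ⟨h, hh, u, hu, hcu⟩ := hP.U_compl.2.2.2 c (hP.fitting_le hcF)
    have hcC : c ∈ Subgroup.centralizer (Cfsg.fittingHallOf M : Set G) := hc.2
    have hch : h * c = c * h := (Subgroup.mem_centralizer_iff.mp hcC) h hh
    have hu' : u = h⁻¹ * c := by rw [hcu]; group
    have hhu : Commute h u := by
      rw [hu']
      change h * (h⁻¹ * c) = h⁻¹ * c * h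
      calc h * (h⁻¹ * c) = h⁻¹ * (h * c) := by group
        _ = h⁻¹ * (c * h) := by rw [hch]
        _ = h⁻¹ * c * h := by group
    have hpow : c ^ (orderOf h) = u ^ (orderOf h) := by
      rw [hcu, hhu.mul_pow, pow_orderOf_eq_one, one_mul]
    have hmem : u ^ (orderOf h) ∈ Subgroup.centralizer (Cfsg.fittingHallOf M : Set G) := by
      rw [← hpow]; exact Subgroup.pow_mem _ hcC _
    have hcop' : (orderOf h).Coprime (orderOf u) :=
      Nat.Coprime.coprime_dvd_left (orderOf_dvd_card_of_mem hh)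
        (Nat.Coprime.coprime_dvd_right (orderOf_dvd_card_of_mem hu) hcop)
    obtain ⟨m, hm⟩ := exists_pow_eq_self_of_coprime hcop'
    have huC : u ∈ Subgroup.centralizer (Cfsg.fittingHallOf M : Set G) := by
      rw [← hm]; exact Subgroup.pow_mem _ hmem _
    rw [hcu]
    exact Subgroup.mul_mem _ (Subgroup.mem_sup_left hh) (Subgroup.mem_sup_right ⟨hu, huC⟩)
  · exact sup_le_sup_left (inf_le_inf_right _ hUM) _

end Cfsg.Agent.Lib.Helper23
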