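import Mathlib
import Cfsg.Agent.Lib.Helper49.SecFunctor2
import Cfsg.Agent.Lib.Helper51.SCZJ
import Cfsg.Agent.Lib.Helper51.CoatomSec
import Cfsg.Agent.Lib.Helper53.PGroups

/-!
# Thompson's normal `p`-complement criterion for a functor evaluated at a strongly closed subgroup

`npc_of_sc`: let `W` be an isomorphism-invariant `p`-group functor and `D` a subgroup strongly
closed in the Sylow `p`-subgroup `P` of `G`.  If `N_G(W(D))` has a normal `p`-complement and
`W(D')` is normal in every group `Y` with `C_Y(O_p(Y)) ≤ O_p(Y)`, `Y/O_p(Y)` `p`-nilpotent, a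
maximal Sylow `p`-subgroup `T` and `D'` strongly closed in `T`, then `G` has a normal
`p`-complement.  (Adaptation of `Helper49.npc_of_secHyp`.)
-/

set_option autoImplicit false

namespace Cfsg.Agent.Lib.Helper23

open Subgroup
open Cfsg.Agent.Lib.Helper34 Cfsg.Agent.Lib.Helper54 Cfsg.Agent.Lib.Helper11
open Cfsg.Agent.Lib.Helper49 Cfsg.Agent.Lib.Helper51 Cfsg.Agent.Lib.Helper33

universe u

/-- The endgame hypothesis. -/
def SCEnd (p : ℕ) (W : ∀ (Q : Type u) [Group Q], Subgroup Q) : Prop :=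
  ∀ (Y : Type u) [Group Y] [Finite Y],
    centralizer ((Cfsg.pCore p Y : Subgroup Y) : Set Y) ≤ Cfsg.pCore p Y →
    Cfsg.HasNormalPComplement p (Y ⧸ Cfsg.pCore p Y) →
    ∀ T : Sylow p Y, IsCoatom (T : Subgroup Y) →
    ∀ D : Subgroup Y, Cfsg.IsStronglyClosed D (T : Subgroup Y) →
      (Cfsg.inducedFunctor W D).Normal

theorem sc_conj {G : Type*} [Group G] {D P : Subgroup G} (hD : Cfsg.IsStronglyClosed D P)
    (g : G) : Cfsg.IsStronglyClosed (D.map (MulAut.conj g).toMonoidHom)
      (P.map (MulAut.conj g).toMonoidHom) := by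
  refine ⟨Subgroup.map_mono hD.1, ?_⟩
  rintro _ ⟨d, hd, rfl⟩ h ⟨y, hy, hyh⟩
  have hyh' : g * y * g⁻¹ = h * (g * d * g⁻¹) * h⁻¹ := hyh
  have h1 : (g⁻¹ * h * g) * d * (g⁻¹ * h * g)⁻¹ = y := by
    have : (g⁻¹ * h * g) * d * (g⁻¹ * h * g)⁻¹ = g⁻¹ * (h * (g * d * g⁻¹) * h⁻¹) * g := by group
    rw [this, ← hyh']; group
  have h2 := hD.2 d hd (g⁻¹ * h * g) (h1 ▸ hy)
  refine ⟨_, h2, ?_⟩
  show g * ((g⁻¹ * h * g) * d * (g⁻¹ * h * g)⁻¹) * g⁻¹ = h * (g * d * g⁻¹) * h⁻¹
  group

theorem sc_inf {G : Type*} [Group G] {D Q R : Subgroup G} (hD : Cfsg.IsStronglyClosed D Q)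
    (hR : R ≤ Q) : Cfsg.IsStronglyClosed (D ⊓ R) R :=
  ⟨inf_le_right, fun x hx g hg =>
    Subgroup.mem_inf.mpr ⟨hD.2 x (Subgroup.mem_inf.mp hx).1 g (hR hg), hg⟩⟩

theorem sc_normalizer_le {G : Type*} [Group G] {D R : Subgroup G}
    (hD : Cfsg.IsStronglyClosed D R) : normalizer (R : Set G) ≤ normalizer (D : Set G) := by
  apply Cfsg.Agent.Lib.Helper53.le_normalizer_of_conj_mem
  intro g hg w hw
  apply hD.2 w hw g
  exact (Subgroup.mem_normalizer_iff.mp hg w).mp (hD.1 hw)

/-- Thompson's normal `p`-complement criterion for a strongly closed subgroup. -/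
theorem npc_of_sc {p : ℕ} [Fact p.Prime] {W : ∀ (Q : Type u) [Group Q], Subgroup Q}
    (hW : Cfsg.IsCharPFunctor.{u} p W) (hend : SCEnd.{u} p W) :
    ∀ (n : ℕ) (G : Type u) [Group G] [Finite G], Nat.card G = n →
      ∀ (P : Sylow p G) (D : Subgroup G), Cfsg.IsStronglyClosed D (P : Subgroup G) →
      IFC p (normalizer (Cfsg.inducedFunctor W D : Set G)) →
      Cfsg.HasNormalPComplement p G := by
  intro n
  induction n using Nat.strong_induction_on with
  | _ n ih =>
  intro G _ _ hn P D hD hyp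
  by_contra hnot
  have hp : p.Prime := Fact.out
  have hG0 : Nat.card G ≠ 0 := Nat.card_pos.ne'
  have hDp : IsPGroup p D := P.2.to_le hD.1
  -- proper subgroups
  have ihsub : ∀ M : Subgroup G, M ≠ ⊤ → ∀ (R : Sylow p ↥M) (D' : Subgroup G),
      D' ≤ (R : Subgroup ↥M).map M.subtype →
      (∀ x ∈ D', ∀ m ∈ M, m * x * m⁻¹ ∈ (R : Subgroup ↥M).map M.subtype → m * x * m⁻¹ ∈ D') →
      IFC p (normalizer (Cfsg.inducedFunctor W D' : Set G)) → IFC p M := by
    intro M hM R D' hD'R hD'c hR
    rw [ifc_iff_hnpc]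
    have hlt : Nat.card M < n := by
      rw [← hn, ← Subgroup.card_top (G := G)]
      exact card_lt_card_of_lt (lt_top_iff_ne_top.mpr hM)
    have hD'M : D' ≤ M := hD'R.trans (Subgroup.map_subtype_le _)
    have hsc : Cfsg.IsStronglyClosed (D'.subgroupOf M) (R : Subgroup ↥M) := by
      refine ⟨?_, ?_⟩
      · intro x hx
        obtain ⟨y, hy, hyx⟩ := hD'R (Subgroup.mem_subgroupOf.mp hx)
        have : y = x := Subtype.ext hyx
        exact this ▸ hy
      · intro x hx g hg
        rw [Subgroup.mem_subgroupOf] at hx ⊢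
        exact hD'c (x : G) hx (g : G) g.2 ⟨_, hg, rfl⟩
    have hD''p : IsPGroup p (D'.subgroupOf M) := R.2.to_le hsc.1
    apply ih _ hlt ↥M rfl R (D'.subgroupOf M) hsc
    apply IFC.of_map_of_injective M.subtype M.subtype_injective
    refine hR.mono ?_
    have h1 := indF_map_of_injOn hW M.subtype (D'.subgroupOf M) hD''p M.subtype_injective.injOn
    rw [Subgroup.map_subgroupOf_eq_of_le hD'M] at h1
    rw [h1]
    exact le_normalizer_map M.subtype
  have hquotlt : ∀ (N : Subgroup G) [N.Normal], N ≠ ⊥ → Nat.card (G ⧸ N) < n := by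
    intro N _ hN
    rw [← hn, Subgroup.card_eq_card_quotient_mul_card_subgroup N]
    have h1 : 1 < Nat.card N := by
      by_contra hle
      have h2 : Nat.card N = 1 := by
        have := Nat.card_pos (α := N)
        omega
      exact hN (Subgroup.eq_bot_of_card_eq N h2)
    have h3 : 0 < Nat.card (G ⧸ N) := Nat.card_pos
    nlinarith
  -- `O_{p'}(G) = 1`
  have hpprime : ∀ D₀ : Subgroup G, D₀.Normal → (Nat.card D₀).Coprime p → D₀ = ⊥ := by
    intro D₀ hDn hD₀
    by_contra hne
    apply hnot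
    apply hnpc_of_quotient_coprime D₀ hD₀
    have hsurj := QuotientGroup.mk'_surjective D₀
    have hsc : Cfsg.IsStronglyClosed (D.map (QuotientGroup.mk' D₀))
        ((P.mapSurjective hsurj : Sylow p (G ⧸ D₀)) : Subgroup (G ⧸ D₀)) := by
      rw [Sylow.coe_mapSurjective]
      exact sc_quotient (sylIn_top P) hD D₀
    apply ih _ (hquotlt D₀ hne) (G ⧸ D₀) rfl (P.mapSurjective hsurj) _ hsc
    have hinj := injOn_mk_of_coprime D D₀ hDp hD₀
    rw [indF_map_of_injOn hW _ _ hDp hinj]
    exact (hyp.map (QuotientGroup.mk' D₀)).mono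
      (normalizer_map_mk_le _ D₀ (hDp.to_le (indF_le _)) hD₀)
  have hnorm : normalizer (Cfsg.inducedFunctor W D : Set G) ≠ ⊤ := by
    intro h
    rw [h] at hyp
    exact hnot (ifc_top_iff.mp hyp)
  have hDnorm : normalizer (D : Set G) ≠ ⊤ := by
    intro h
    apply hnorm
    rw [eq_top_iff, ← h]
    exact normalizer_le_normalizer_indF hW D hDp
  have hDne : D ≠ ⊥ := by
    rintro rfl
    exact hDnorm (Subgroup.normalizer_eq_top_iff.mpr inferInstance)
  -- a maximal bad subgroup
  obtain ⟨U, hUp, hUne, hUbad, hM1, hM2⟩ := exists_max_bad hnot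
  have hNtop : normalizer (U : Set G) = ⊤ := by
    by_contra hNtop
    apply hUbad
    obtain ⟨R⟩ : Nonempty (Sylow p ↥(normalizer (U : Set G))) := inferInstance
    obtain ⟨R', hR'⟩ : ∃ R' : Subgroup G,
        R' = (R : Subgroup ↥(normalizer (U : Set G))).map (normalizer (U : Set G)).subtype :=
      ⟨_, rfl⟩
    have hR'p : IsPGroup p R' := hR' ▸ R.2.map _
    have hcardR' : Nat.card R' = p ^ (Nat.card ↥(normalizer (U : Set G))).factorization p := by
      rw [hR', Subgroup.card_map_of_injective (Subgroup.subtype_injective _)]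
      exact R.card_eq_multiplicity
    have hUR' : U ≤ R' := by
      have hUn' : (U.subgroupOf (normalizer (U : Set G))).Normal := Subgroup.normal_in_normalizer
      have hUp' : IsPGroup p ↥(U.subgroupOf (normalizer (U : Set G))) := hUp.comap_subtype
      have h1 : U.subgroupOf (normalizer (U : Set G)) ≤ R := hUp'.le_sylow_of_normal R
      intro u hu
      rw [hR']
      exact ⟨⟨u, le_normalizer hu⟩, h1 (mem_subgroupOf.mpr hu), rfl⟩
    have hR'ne : R' ≠ ⊥ := fun h => hUne (le_bot_iff.mp (h ▸ hUR'))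
    -- a Sylow subgroup of `G` containing `R'`, and its strongly closed subgroup
    obtain ⟨Q, hQ⟩ := hR'p.exists_le_sylow
    obtain ⟨g, hg⟩ := MulAction.exists_smul_eq G P Q
    have hQcoe : (Q : Subgroup G) = (P : Subgroup G).map (MulAut.conj g).toMonoidHom := by
      rw [← hg]; rfl
    have hDQ : Cfsg.IsStronglyClosed (D.map (MulAut.conj g).toMonoidHom) (Q : Subgroup G) := by
      rw [hQcoe]; exact sc_conj hD g
    have hDQne : D.map (MulAut.conj g).toMonoidHom ≠ ⊥ := by
      intro h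
      exact hDne ((Subgroup.map_eq_bot_iff_of_injective _ (MulAut.conj g).injective).mp h)
    have hsc' : Cfsg.IsStronglyClosed (D.map (MulAut.conj g).toMonoidHom ⊓ R') R' :=
      sc_inf hDQ hQ
    have hD'p : IsPGroup p (D.map (MulAut.conj g).toMonoidHom ⊓ R' : Subgroup G) :=
      hR'p.to_le inf_le_right
    -- `R' = Q ∩ N_G(U)`
    have hQN : ∀ w ∈ (Q : Subgroup G), w ∈ normalizer (U : Set G) → w ∈ R' := by
      intro w hwQ hwN
      have h1 : IsPGroup p ((Q : Subgroup G).subgroupOf (normalizer (U : Set G))) :=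
        Q.2.comap_subtype
      have h2 : (R : Subgroup ↥(normalizer (U : Set G))) ≤
          (Q : Subgroup G).subgroupOf (normalizer (U : Set G)) := by
        intro x hx
        rw [Subgroup.mem_subgroupOf]
        exact hQ (hR' ▸ ⟨x, hx, rfl⟩)
      have h3 := R.is_maximal' h1 h2
      have h4 : (⟨w, hwN⟩ : ↥(normalizer (U : Set G))) ∈
          (Q : Subgroup G).subgroupOf (normalizer (U : Set G)) := Subgroup.mem_subgroupOf.mpr hwQ
      rw [h3] at h4
      rw [hR']
      exact ⟨_, h4, rfl⟩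
    have hD'ne : (D.map (MulAut.conj g).toMonoidHom ⊓ R' : Subgroup G) ≠ ⊥ := by
      obtain ⟨w, hwD, hw1, hwc⟩ := Cfsg.Agent.Lib.Helper53.exists_mem_center_of_normal_subgroup
        Q.2 hDQ.1 (sc_le_normalizer hDQ) hDQne
      have hwN : w ∈ normalizer (U : Set G) := by
        apply Subgroup.centralizer_le_normalizer
        rw [Subgroup.mem_centralizer_iff]
        intro u hu
        exact hwc u (hQ (hUR' hu))
      have hwR : w ∈ R' := hQN w (hDQ.1 hwD) hwN
      intro hbot
      have : w ∈ (D.map (MulAut.conj g).toMonoidHom ⊓ R' : Subgroup G) :=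
        Subgroup.mem_inf.mpr ⟨hwD, hwR⟩
      rw [hbot, Subgroup.mem_bot] at this
      exact hw1 this
    have hXp : IsPGroup p (Cfsg.inducedFunctor W
        (D.map (MulAut.conj g).toMonoidHom ⊓ R' : Subgroup G)) := hD'p.to_le (indF_le _)
    have hXne : Cfsg.inducedFunctor W (D.map (MulAut.conj g).toMonoidHom ⊓ R' : Subgroup G) ≠ ⊥ :=
      indF_ne_bot hW _ hD'p hD'ne
    apply ihsub _ hNtop R (D.map (MulAut.conj g).toMonoidHom ⊓ R')
    · rw [← hR']; exact inf_le_right
    · intro x hx m _ hm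
      rw [← hR'] at hm
      exact hsc'.2 x hx m hm
    by_cases hfull : (Nat.card ↥(normalizer (U : Set G))).factorization p =
        (Nat.card G).factorization p
    · rw [hfull] at hcardR'
      have hRQ : R' = (Q : Subgroup G) := by
        apply Subgroup.eq_of_le_of_card_ge hQ
        rw [hcardR', Q.card_eq_multiplicity]
      have hinf : (D.map (MulAut.conj g).toMonoidHom ⊓ R' : Subgroup G) =
          D.map (MulAut.conj g).toMonoidHom := by
        rw [inf_eq_left, hRQ]; exact hDQ.1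
      rw [hinf, indF_map_of_injOn hW _ _ hDp ((MulAut.conj g).injective.injOn),
        normalizer_map_conj]
      exact hyp.conj g
    · have hle0 : (Nat.card ↥(normalizer (U : Set G))).factorization p ≤
          (Nat.card G).factorization p :=
        (hp.pow_dvd_iff_le_factorization hG0).mp
          ((Nat.ordProj_dvd _ _).trans (Subgroup.card_subgroup_dvd_card _))
      have hlt2 := lt_of_le_of_ne hle0 hfull
      have hdvd1 : p ^ ((Nat.card ↥(normalizer (U : Set G))).factorization p + 1) ∣ Nat.card G :=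
        (hp.pow_dvd_iff_le_factorization hG0).mpr hlt2
      have hdvd2 := Sylow.prime_pow_dvd_card_normalizer hdvd1 hcardR'
      have hdvd3 : p ^ ((Nat.card ↥(normalizer (U : Set G))).factorization p + 1) ∣
          Nat.card ↥(normalizer (Cfsg.inducedFunctor W
            (D.map (MulAut.conj g).toMonoidHom ⊓ R' : Subgroup G) : Set G)) :=
        hdvd2.trans (Subgroup.card_dvd_of_le
          ((sc_normalizer_le hsc').trans (normalizer_le_normalizer_indF hW _ hD'p)))
      apply hM1 _ hXp hXne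
      exact Nat.lt_of_succ_le ((hp.pow_dvd_iff_le_factorization Nat.card_pos.ne').mp hdvd3)
  have hUn : U.Normal := Subgroup.normalizer_eq_top_iff.mp hNtop
  have hN2 : ∀ K : Subgroup G, IsPGroup p K → U < K →
      (P : Subgroup G) ≤ normalizer (K : Set G) → IFC p (normalizer (K : Set G)) := by
    intro K hK hUK hPK
    have hKne : K ≠ ⊥ := by
      rintro rfl
      exact hUne (le_bot_iff.mp hUK.le)
    refine hM2 K hK hKne ?_ (card_lt_card_of_lt hUK)
    rw [hNtop, Subgroup.card_top]
    apply le_antisymm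
    · have h1 : p ^ (Nat.card G).factorization p ∣ Nat.card (normalizer (K : Set G)) := by
        rw [← P.card_eq_multiplicity]; exact Subgroup.card_dvd_of_le hPK
      exact (hp.pow_dvd_iff_le_factorization Nat.card_pos.ne').mp h1
    · have h2 : Nat.card (normalizer (K : Set G)) ∣ Nat.card G := Subgroup.card_subgroup_dvd_card _
      exact (Nat.factorization_le_iff_dvd Nat.card_pos.ne' Nat.card_pos.ne').mpr h2 p
  have hN1 : ∀ R : Subgroup G, R.Normal → IsPGroup p R → R ≤ U := by
    intro R hRn hRp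
    by_contra hRU
    have hsup : IsPGroup p (R ⊔ U : Subgroup G) := IsPGroup.to_sup_of_normal_right hRp hUp
    have hlt : U < R ⊔ U := lt_of_le_of_ne le_sup_right (fun heq => hRU (heq ▸ le_sup_left))
    have hn : (R ⊔ U).Normal := inferInstance
    have h1 := hN2 (R ⊔ U) hsup hlt (by rw [Subgroup.normalizer_eq_top_iff.mpr hn]; exact le_top)
    rw [Subgroup.normalizer_eq_top_iff.mpr hn] at h1
    exact hnot (ifc_top_iff.mp h1)
  have hUeq : U = Cfsg.pCore p G :=
    le_antisymm (le_pCore' hUn hUp) (hN1 _ (Cfsg.Agent.Lib.Helper11.pCore_normal' p G) (Cfsg.Agent.Lib.Helper11.pCore_isPGroup' p G))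
  subst hUeq
  have hUP : Cfsg.pCore p G ≤ (P : Subgroup G) := hUp.le_sylow_of_normal P
  have hsurj := QuotientGroup.mk'_surjective (Cfsg.pCore p G)
  have hker : ∀ u ∈ Cfsg.pCore p G, (QuotientGroup.mk' (Cfsg.pCore p G)) u = 1 :=
    fun u hu => (QuotientGroup.eq_one_iff u).mpr hu
  -- `D` is not contained in `O_p(G)`
  have hDU : ¬ D ≤ Cfsg.pCore p G := by
    intro hle
    apply hDnorm
    rw [eq_top_iff]
    intro g _
    have h1 : ∀ (k : G), ∀ w ∈ D, k * w * k⁻¹ ∈ D := fun k w hw =>
      hD.2 w hw k (hUP (hUn.conj_mem w (hle hw) k))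
    exact Cfsg.Agent.Lib.Helper53.le_normalizer_of_conj_mem (K := ⊤)
      (fun k _ w hw => h1 k w hw) (Subgroup.mem_top g)
  -- `G/U` has a normal `p`-complement
  have hquot : Cfsg.HasNormalPComplement p (G ⧸ Cfsg.pCore p G) := by
    let Pb : Sylow p (G ⧸ Cfsg.pCore p G) := P.mapSurjective hsurj
    have hPb : (Pb : Subgroup (G ⧸ Cfsg.pCore p G)) =
        (P : Subgroup G).map (QuotientGroup.mk' (Cfsg.pCore p G)) :=
      Sylow.coe_mapSurjective hsurj P
    have hscb : Cfsg.IsStronglyClosed (D.map (QuotientGroup.mk' (Cfsg.pCore p G)))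
        (Pb : Subgroup (G ⧸ Cfsg.pCore p G)) := by
      rw [hPb]
      exact sc_quotient (sylIn_top P) hD (Cfsg.pCore p G)
    apply ih _ (hquotlt (Cfsg.pCore p G) hUne) (G ⧸ Cfsg.pCore p G) rfl Pb _ hscb
    have hDbne : D.map (QuotientGroup.mk' (Cfsg.pCore p G)) ≠ ⊥ := by
      intro hbot
      apply hDU
      intro x hx
      have h1 : (QuotientGroup.mk' (Cfsg.pCore p G)) x ∈
          D.map (QuotientGroup.mk' (Cfsg.pCore p G)) := ⟨x, hx, rfl⟩
      rw [hbot, Subgroup.mem_bot] at h1
      exact (QuotientGroup.eq_one_iff x).mp h1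
    have hPbp : IsPGroup p (Pb : Subgroup (G ⧸ Cfsg.pCore p G)) := Pb.2
    have hDbp : IsPGroup p (D.map (QuotientGroup.mk' (Cfsg.pCore p G))) := hPbp.to_le hscb.1
    obtain ⟨Xb, hXb⟩ : ∃ Xb : Subgroup (G ⧸ Cfsg.pCore p G),
        Xb = Cfsg.inducedFunctor W (D.map (QuotientGroup.mk' (Cfsg.pCore p G))) := ⟨_, rfl⟩
    rw [← hXb]
    have hXle : Xb ≤ Pb := hXb ▸ (indF_le _).trans hscb.1
    have hXne : Xb ≠ ⊥ := hXb ▸ indF_ne_bot hW _ hDbp hDbne
    have hXnorm : (Pb : Subgroup (G ⧸ Cfsg.pCore p G)) ≤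
        normalizer (Xb : Set (G ⧸ Cfsg.pCore p G)) :=
      hXb ▸ (sc_le_normalizer hscb).trans (normalizer_le_normalizer_indF hW _ hDbp)
    have hUK : Cfsg.pCore p G ≤ Xb.comap (QuotientGroup.mk' (Cfsg.pCore p G)) := by
      intro u hu
      show (QuotientGroup.mk' (Cfsg.pCore p G)) u ∈ Xb
      rw [hker u hu]; exact Xb.one_mem
    have hKp : IsPGroup p (Xb.comap (QuotientGroup.mk' (Cfsg.pCore p G))) := by
      apply IsPGroup.comap_of_ker_isPGroup (hPbp.to_le hXle)
      rw [QuotientGroup.ker_mk']; exact hUp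
    have hlt : Cfsg.pCore p G < Xb.comap (QuotientGroup.mk' (Cfsg.pCore p G)) := by
      refine lt_of_le_of_ne hUK ?_
      intro heq
      obtain ⟨⟨xv, hxv⟩, hx1⟩ := (Subgroup.ne_bot_iff_exists_ne_one).mp hXne
      obtain ⟨g, rfl⟩ := hsurj xv
      have h2 : g ∈ Xb.comap (QuotientGroup.mk' (Cfsg.pCore p G)) := hxv
      rw [← heq] at h2
      apply hx1
      apply Subtype.ext
      exact (QuotientGroup.eq_one_iff g).mpr h2
    have hPK : (P : Subgroup G) ≤
        normalizer ((Xb.comap (QuotientGroup.mk' (Cfsg.pCore p G)) : Subgroup G) : Set G) := by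
      rw [← Subgroup.comap_normalizer_eq_of_surjective Xb hsurj]
      intro g hg
      exact hXnorm (hPb ▸ ⟨g, hg, rfl⟩)
    have h1 := (hN2 _ hKp hlt hPK).map (QuotientGroup.mk' (Cfsg.pCore p G))
    rw [← Subgroup.comap_normalizer_eq_of_surjective Xb hsurj,
      Subgroup.map_comap_eq_self_of_surjective hsurj] at h1
    exact h1
  obtain ⟨Lb, hLb⟩ := hasNormalPComplement_iff.mp hquot
  have hLbn : Lb.Normal := hLb.1
  -- normal subgroups with the Frobenius condition lie in `U`
  have hnormal_ifc : ∀ C : Subgroup G, C.Normal → IFC p C → C ≤ Cfsg.pCore p G := by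
    intro C hC hifc
    obtain ⟨D₁, hDn, hDC, hDcop, hDmem⟩ := exists_normal_pPrime_of_ifc C hifc
    have hDbot : D₁ = ⊥ := hpprime D₁ hDn hDcop
    apply hN1 C hC
    apply isPGroup_subgroup_of_forall_coprime_eq_one
    intro x hx hxp
    have h1 := hDmem x hx hxp
    rw [hDbot] at h1
    exact Subgroup.mem_bot.mp h1
  -- `C_G(U) ≤ U`
  have hcU : centralizer ((Cfsg.pCore p G : Subgroup G) : Set G) ≤ Cfsg.pCore p G := by
    have hM : IFC p (centralizer ((Cfsg.pCore p G : Subgroup G) : Set G) ⊓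
        Lb.comap (QuotientGroup.mk' (Cfsg.pCore p G))) := by
      intro Q hQM hQ g hg _ _
      have hgC : g ∈ centralizer ((Cfsg.pCore p G : Subgroup G) : Set G) :=
        (Subgroup.mem_inf.mp hg).1
      have hQU : Q ≤ Cfsg.pCore p G := by
        intro x hx
        have hxL : (QuotientGroup.mk' (Cfsg.pCore p G)) x ∈ Lb := (Subgroup.mem_inf.mp (hQM hx)).2
        have h1 : (orderOf ((QuotientGroup.mk' (Cfsg.pCore p G)) x)).Coprime p :=
          hLb.coprime_of_mem hxL
        obtain ⟨k, hk⟩ := hQ ⟨x, hx⟩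
        have hk' : x ^ p ^ k = 1 := by
          have := congrArg Subtype.val hk
          simpa using this
        have h2 : ((QuotientGroup.mk' (Cfsg.pCore p G)) x) ^ p ^ k = 1 := by
          rw [← map_pow, hk', map_one]
        have h3 := eq_one_of_pow_eq_one_of_coprime h2 h1
        exact (QuotientGroup.eq_one_iff x).mp h3
      exact Subgroup.centralizer_le (SetLike.coe_subset_coe.mpr hQU) hgC
    have hMn : (centralizer ((Cfsg.pCore p G : Subgroup G) : Set G) ⊓
        Lb.comap (QuotientGroup.mk' (Cfsg.pCore p G))).Normal := inferInstance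
    have hMU := hnormal_ifc _ hMn hM
    apply hN1 _ inferInstance
    apply isPGroup_subgroup_of_forall_coprime_eq_one
    intro x hx hxp
    have h1 : (orderOf ((QuotientGroup.mk' (Cfsg.pCore p G)) x)).Coprime p :=
      Nat.Coprime.coprime_dvd_left (orderOf_map_dvd _ x) hxp
    have h2 : (QuotientGroup.mk' (Cfsg.pCore p G)) x ∈ Lb := hLb.mem_of_coprime h1
    have h3 : x ∈ Cfsg.pCore p G := hMU (Subgroup.mem_inf.mpr ⟨hx, h2⟩)
    exact eq_one_of_mem_pgroup_of_coprime hUp h3 hxp
  -- `P` is a maximal subgroup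
  have hcoatom : IsCoatom (P : Subgroup G) := by
    refine ⟨?_, ?_⟩
    · intro hPtop
      apply hDnorm
      rw [eq_top_iff, ← hPtop]
      exact sc_le_normalizer hD
    · intro M hPM
      by_contra hMtop
      have hmap : ((P.subtype hPM.le : Sylow p ↥M) : Subgroup ↥M).map M.subtype =
          (P : Subgroup G) := by
        rw [Sylow.coe_subtype, Subgroup.map_subgroupOf_eq_of_le hPM.le]
      have hifc : IFC p M := by
        apply ihsub M hMtop (P.subtype hPM.le) D
        · rw [hmap]; exact hD.1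
        · intro x hx m _ hm
          rw [hmap] at hm
          exact hD.2 x hx m hm
        · exact hyp
      have hUM : Cfsg.pCore p G ≤ M := hUP.trans hPM.le
      have hMp : IsPGroup p M := by
        apply isPGroup_subgroup_of_forall_coprime_eq_one
        intro y hy hyp'
        have h1 : y ∈ centralizer ((Cfsg.pCore p G : Subgroup G) : Set G) :=
          hifc _ hUM hUp y hy (by rw [hNtop]; exact mem_top y) hyp'
        exact eq_one_of_mem_pgroup_of_coprime hUp (hcU h1) hyp'
      exact hPM.ne (P.is_maximal' hMp hPM.le).symm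
  -- endgame
  have hfin := hend G hcU hquot P hcoatom D hD
  exact hnorm (Subgroup.normalizer_eq_top_iff.mpr hfin)

/-- The endgame hypothesis follows from control of strong fusion in `Qd(p)`-free groups. -/
theorem scEnd_of_control {p : ℕ} [Fact p.Prime] (hp : p ≠ 2)
    {W : ∀ (Q : Type u) [Group Q], Subgroup Q} (hW : Cfsg.IsCharPFunctor.{u} p W)
    (hctl : ∀ (Y : Type u) [Group Y] [Finite Y], ¬ Cfsg.Involves ↥(Cfsg.qd p) Y →
      ∀ (T : Sylow p Y) (D : Subgroup Y), Cfsg.IsStronglyClosed D (T : Subgroup Y) →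
      ∀ A : Set Y, A ⊆ (T : Subgroup Y) →
        Cfsg.ControlsStrongFusionOf (normalizer (Cfsg.inducedFunctor W D : Set Y))
          (T : Subgroup Y) A) : SCEnd.{u} p W := by
  intro Y _ _ hc hq T hT D hD
  have hfree := qd_free_of_coatom hp hq T hT
  have hDp : IsPGroup p D := T.2.to_le hD.1
  exact normal_of_controlsStrongFusion hc T _
    ((sc_le_normalizer hD).trans (normalizer_le_normalizer_indF hW D hDp))
    ⟨T, (indF_le D).trans hD.1, hctl Y hfree T D hD⟩

/-- Normal `p`-complement criterion for strongly closed subgroups, functor form, `p` odd. -/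
theorem npc_of_sc_control {p : ℕ} [Fact p.Prime] (hp : p ≠ 2)
    {W : ∀ (Q : Type u) [Group Q], Subgroup Q} (hW : Cfsg.IsCharPFunctor.{u} p W)
    (hctl : ∀ (Y : Type u) [Group Y] [Finite Y], ¬ Cfsg.Involves ↥(Cfsg.qd p) Y →
      ∀ (T : Sylow p Y) (D : Subgroup Y), Cfsg.IsStronglyClosed D (T : Subgroup Y) →
      ∀ A : Set Y, A ⊆ (T : Subgroup Y) →
        Cfsg.ControlsStrongFusionOf (normalizer (Cfsg.inducedFunctor W D : Set Y))
          (T : Subgroup Y) A)
    {G : Type u} [Group G] [Finite G] (P : Sylow p G) (D : Subgroup G)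
    (hD : Cfsg.IsStronglyClosed D (P : Subgroup G))
    (h : Cfsg.HasNormalPComplement p ↥(normalizer (Cfsg.inducedFunctor W D : Set G))) :
    Cfsg.HasNormalPComplement p G :=
  npc_of_sc hW (scEnd_of_control hp hW hctl) _ G rfl P D hD ((ifc_iff_hnpc _).mpr h)

end Cfsg.Agent.Lib.Helper23
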